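import Mathlib
import Cfsg.Agent.Helper71.BSW.Defs

/-!
# Piece (A0b) of helper71's plan for S3282 (board #10811)

`K` has the unique involution `t`, `C(x) = K` for `x ∈ K ∖ {1, t}`, `K` is TI with normalizer
control, and `2 ∣ |K|`.
-/

set_option autoImplicit false

namespace Cfsg.Agent.Helper23.BSW

open Cfsg.Agent.Helper71.BSW

/-- elements of `zpowers t` for an involution `t` -/
theorem eq_one_or_eq_of_mem_zpowers_involution {G : Type*} [Group G] {t x : G}
    (ht : orderOf t = 2) (hx : x ∈ Subgroup.zpowers t) : x = 1 ∨ x = t := by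
  obtain ⟨k, rfl⟩ := Subgroup.mem_zpowers_iff.mp hx
  rw [← zpow_mod_orderOf, ht]
  rcases Int.emod_two_eq_zero_or_one k with h | h
  · left
    rw [show ((2 : ℕ) : ℤ) = 2 from rfl, h, zpow_zero]
  · right
    rw [show ((2 : ℕ) : ℤ) = 2 from rfl, h, zpow_one]

theorem factsA0b {G : Type*} [Group G] [Finite G] {t s : G} {K : Subgroup G} (h : Hyp t s K)
    (ha : ∀ g ∈ Subgroup.centralizer ({t} : Set G), g ∈ K ∨ ∃ x ∈ K, g = s * x) :
    (∀ x ∈ K, orderOf x = 2 → x = t) ∧
    (∀ x ∈ K, x ≠ 1 → x ≠ t → Subgroup.centralizer ({x} : Set G) = K) ∧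
    (∀ x ∈ K, x ≠ 1 → ∀ g : G, g * x * g⁻¹ ∈ K → g ∈ Subgroup.centralizer ({t} : Set G)) ∧
    2 ∣ Nat.card K := by
  -- (1)
  have h1 : ∀ x ∈ K, orderOf x = 2 → x = t := by
    intro x hx hox
    have hxx : x * x = 1 := by
      have := pow_orderOf_eq_one x
      rwa [hox, pow_two] at this
    have hxinv : x⁻¹ = x := inv_eq_of_mul_eq_one_left hxx
    have hsx : s * x * s⁻¹ = x := by rw [h.hinv x hx, hxinv]
    have hcomm : s * x = x * s := by
      calc s * x = (s * x * s⁻¹) * s := by group
        _ = x * s := by rw [hsx]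
    have hmem : x ∈ K ⊓ Subgroup.centralizer ({s} : Set G) := by
      refine Subgroup.mem_inf.mpr ⟨hx, ?_⟩
      rw [Subgroup.mem_centralizer_singleton_iff]
      first
        | exact hcomm
        | exact hcomm.symm
    rw [h.hCK] at hmem
    rcases eq_one_or_eq_of_mem_zpowers_involution h.ht hmem with h' | h'
    · exfalso
      rw [h', orderOf_one] at hox
      exact absurd hox (by norm_num)
    · exact h'
  -- (3)
  have h3 : ∀ x ∈ K, x ≠ 1 → ∀ g : G, g * x * g⁻¹ ∈ K →
      g ∈ Subgroup.centralizer ({t} : Set G) := by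
    intro x hx hx1 g hg
    by_contra hgt
    have hbot := h.hTI g hgt
    have hmem : g * x * g⁻¹ ∈ K ⊓ K.map (MulAut.conj g).toMonoidHom :=
      Subgroup.mem_inf.mpr ⟨hg, Subgroup.mem_map.mpr ⟨x, hx, rfl⟩⟩
    rw [hbot, Subgroup.mem_bot] at hmem
    apply hx1
    calc x = g⁻¹ * (g * x * g⁻¹) * g := by group
      _ = 1 := by rw [hmem]; group
  -- (2)
  have h2 : ∀ x ∈ K, x ≠ 1 → x ≠ t → Subgroup.centralizer ({x} : Set G) = K := by
    intro x hx hx1 hxt
    apply le_antisymm
    · intro g hg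
      have hgx : g * x = x * g := by
        rw [Subgroup.mem_centralizer_singleton_iff] at hg
        exact hg
      have hconj : g * x * g⁻¹ = x := by rw [hgx]; group
      have hgt : g ∈ Subgroup.centralizer ({t} : Set G) := h3 x hx hx1 g (by rw [hconj]; exact hx)
      rcases ha g hgt with hK | ⟨y, hy, rfl⟩
      · exact hK
      · exfalso
        have hyx : y * x * y⁻¹ = x := by rw [h.hKab y hy x hx]; group
        have e : s * y * x * (s * y)⁻¹ = s * (y * x * y⁻¹) * s⁻¹ := by group
        rw [e, hyx, h.hinv x hx] at hconj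
        -- `x⁻¹ = x`
        have hxx : x * x = 1 := by
          calc x * x = x⁻¹ * x := by rw [hconj]
            _ = 1 := inv_mul_cancel x
        have hd : orderOf x ∣ 2 := orderOf_dvd_of_pow_eq_one (by rw [pow_two, hxx])
        rcases (Nat.dvd_prime Nat.prime_two).mp hd with h' | h'
        · exact hx1 (orderOf_eq_one_iff.mp h')
        · exact hxt (h1 x hx h')
    · intro y hy
      rw [Subgroup.mem_centralizer_singleton_iff]
      exact h.hKab y hy x hx
  -- (4)
  have h4 : 2 ∣ Nat.card K := by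
    have := Subgroup.orderOf_dvd_natCard K h.htK
    rwa [h.ht] at this
  exact ⟨h1, h2, h3, h4⟩

end Cfsg.Agent.Helper23.BSW
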