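import Mathlib
import Cfsg.Agent.Helper71.BSW.Defs

/-!
# Piece (A0c) of helper71's plan for S3282 (board #10812)

Odd-order elements of `C(t)` lie in `K`; normalizers of nontrivial subgroups of `K` lie in `C(t)`.
-/

set_option autoImplicit false

namespace Cfsg.Agent.Helper23.BSW

open Cfsg.Agent.Helper71.BSW

theorem factsA0c {G : Type*} [Group G] [Finite G] {t s : G} {K : Subgroup G} (h : Hyp t s K)
    (ha : ∀ g ∈ Subgroup.centralizer ({t} : Set G), g ∈ K ∨ ∃ x ∈ K, g = s * x)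
    (ho : ∀ x ∈ K, orderOf (s * x) = 2)
    (hti : ∀ x ∈ K, x ≠ 1 → ∀ g : G, g * x * g⁻¹ ∈ K → g ∈ Subgroup.centralizer ({t} : Set G)) :
    (∀ g ∈ Subgroup.centralizer ({t} : Set G), Odd (orderOf g) → g ∈ K) ∧
    (∀ A : Subgroup G, A ≤ K → A ≠ ⊥ →
      Subgroup.normalizer (A : Set G) ≤ Subgroup.centralizer ({t} : Set G)) := by
  constructor
  · intro g hg hodd
    rcases ha g hg with hK | ⟨x, hx, rfl⟩
    · exact hK
    · exfalso
      rw [ho x hx] at hodd
      exact (by decide : ¬ Odd 2) hodd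
  · intro A hAK hA g hg
    obtain ⟨⟨x, hxA⟩, hx1⟩ := (Subgroup.ne_bot_iff_exists_ne_one).mp hA
    have hx1' : x ≠ 1 := fun h' => hx1 (Subtype.ext h')
    have hconj : g * x * g⁻¹ ∈ A := (Subgroup.mem_normalizer_iff.mp hg x).mp hxA
    exact hti x (hAK hxA) hx1' g (hAK hconj)

end Cfsg.Agent.Helper23.BSW
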