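import Mathlib
import Cfsg.Agent.Helper71.BSW.Defs

/-!
# Piece (B6) of helper71's plan for S3282 (board #10875)

`C(v) = C(y)` for `1 ≠ v ∈ C(y)`, `y` a `d`-element.
-/

set_option autoImplicit false

namespace Cfsg.Agent.Helper23.BSW

open Cfsg.Agent.Helper71.BSW

/-- a subgroup inverted elementwise by some element is abelian -/
theorem comm_of_inverted {G : Type*} [Group G] (D : Subgroup G) (u : G)
    (hu : ∀ v ∈ D, u * v * u⁻¹ = v⁻¹) : ∀ a ∈ D, ∀ b ∈ D, a * b = b * a := by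
  intro a ha b hb
  have h1 := hu (a * b) (D.mul_mem ha hb)
  have h2 : u * (a * b) * u⁻¹ = (u * a * u⁻¹) * (u * b * u⁻¹) := by group
  rw [h2, hu a ha, hu b hb, mul_inv_rev] at h1
  -- `a⁻¹ * b⁻¹ = b⁻¹ * a⁻¹`
  have h3 : (a⁻¹ * b⁻¹)⁻¹ = (b⁻¹ * a⁻¹)⁻¹ := by rw [h1]
  simpa using h3.symm

theorem b_cent_D_eq {G : Type*} [Group G] [Finite G] {t s : G} {K : Subgroup G} {q d : ℕ}
    (c : Ctx t s K q d)
    (h_arith : Odd q ∧ Odd d ∧ q.Coprime (2 * Nat.card K) ∧ d.Coprime (2 * Nat.card K) ∧ q.Coprime d ∧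
      q ^ 2 = 4 * Nat.card K * d + 1 ∧ 3 ≤ d ∧ 7 ≤ q)
    (h_card_cent_D : ∀ y : G, y ≠ 1 → (orderOf y).Coprime (2 * Nat.card K * q) →
    Nat.card (Subgroup.centralizer ({y} : Set G)) = d ∧
      ∃ u : G, orderOf u = 2 ∧ ∀ v ∈ Subgroup.centralizer ({y} : Set G), u * v * u⁻¹ = v⁻¹)
    :
    ∀ y v : G, y ≠ 1 → (orderOf y).Coprime (2 * Nat.card K * q) →
    v ∈ Subgroup.centralizer ({y} : Set G) → v ≠ 1 →
    (orderOf v).Coprime (2 * Nat.card K * q) ∧
      Subgroup.centralizer ({v} : Set G) = Subgroup.centralizer ({y} : Set G) := by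
  intro y v hy1 hycop hv hv1
  obtain ⟨hcard, u, -, hu⟩ := h_card_cent_D y hy1 hycop
  have hab := comm_of_inverted _ u hu
  obtain ⟨-, -, -, hd2k, hqd, -, -, -⟩ := h_arith
  have hvd : orderOf v ∣ d := by
    have := Subgroup.orderOf_dvd_natCard _ hv
    rwa [hcard] at this
  have hvcop : (orderOf v).Coprime (2 * Nat.card K * q) :=
    Nat.Coprime.coprime_dvd_left hvd (Nat.Coprime.mul_right hd2k hqd.symm)
  refine ⟨hvcop, ?_⟩
  have hle : Subgroup.centralizer ({y} : Set G) ≤ Subgroup.centralizer ({v} : Set G) := by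
    intro w hw
    rw [Subgroup.mem_centralizer_singleton_iff]
    exact hab w hw v hv
  have hcardv := (h_card_cent_D v hv1 hvcop).1
  exact (Subgroup.eq_of_le_of_card_ge hle (by rw [hcard, hcardv])).symm

end Cfsg.Agent.Helper23.BSW
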