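import Mathlib
import Cfsg.Agent.Helper71.BSW.Defs

/-!
# Piece (B9) of helper71's plan for S3282 (board #10878)

`|N(C(y))| = 2d` for a `d`-element `y`, by double counting the pairs `(v, g)` with `v` a `d`-element
and `g⁻¹ v g ∈ C(y)`.
-/

set_option autoImplicit false

namespace Cfsg.Agent.Helper23.BSW

open Cfsg.Agent.Helper71.BSW

theorem orderOf_conj_eq {G : Type*} [Group G] (g w : G) : orderOf (g * w * g⁻¹) = orderOf w := by
  rw [← MulAut.conj_apply, MulEquiv.orderOf_eq]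

theorem b_card_normalizer_D {G : Type*} [Group G] [Finite G] {t s : G} {K : Subgroup G} {q d : ℕ}
    (c : Ctx t s K q d)
    (h_arith : Odd q ∧ Odd d ∧ q.Coprime (2 * Nat.card K) ∧ d.Coprime (2 * Nat.card K) ∧ q.Coprime d ∧
      q ^ 2 = 4 * Nat.card K * d + 1 ∧ 3 ≤ d ∧ 7 ≤ q)
    (h_card_cent_D : ∀ y : G, y ≠ 1 → (orderOf y).Coprime (2 * Nat.card K * q) →
    Nat.card (Subgroup.centralizer ({y} : Set G)) = d ∧
      ∃ u : G, orderOf u = 2 ∧ ∀ v ∈ Subgroup.centralizer ({y} : Set G), u * v * u⁻¹ = v⁻¹)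
    (h_cent_D_eq : ∀ y v : G, y ≠ 1 → (orderOf y).Coprime (2 * Nat.card K * q) →
    v ∈ Subgroup.centralizer ({y} : Set G) → v ≠ 1 →
    (orderOf v).Coprime (2 * Nat.card K * q) ∧
      Subgroup.centralizer ({v} : Set G) = Subgroup.centralizer ({y} : Set G))
    (h_cent_D_conj : ∀ y y' : G, y ≠ 1 → (orderOf y).Coprime (2 * Nat.card K * q) → y' ≠ 1 →
    (orderOf y').Coprime (2 * Nat.card K * q) →
    ∃ g : G, (Subgroup.centralizer ({y} : Set G)).map (MulAut.conj g).toMonoidHom =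
      Subgroup.centralizer ({y'} : Set G))
    (h_card_Delt : Nat.card {g : G // g ≠ 1 ∧ (orderOf g).Coprime (2 * Nat.card K * q)} =
      q * Nat.card K * (d - 1))
    :
    ∀ y : G, y ≠ 1 → (orderOf y).Coprime (2 * Nat.card K * q) →
    Nat.card (Subgroup.normalizer ((Subgroup.centralizer ({y} : Set G) : Subgroup G) : Set G)) =
      2 * d := by
  classical
  intro y hy1 hycop
  have : Fintype G := Fintype.ofFinite G
  set D : Subgroup G := Subgroup.centralizer ({y} : Set G) with hD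
  have hcardD : Nat.card D = d := (h_card_cent_D y hy1 hycop).1
  obtain ⟨-, -, -, -, -, -, hd3, hq7⟩ := h_arith
  -- the finsets
  set sD : Finset G := Finset.univ.filter (fun v => v ≠ 1 ∧ (orderOf v).Coprime (2 * Nat.card K * q))
    with hsD
  set fD : Finset G := Finset.univ.filter (fun w => w ∈ D) with hfD
  set fN : Finset G := Finset.univ.filter (fun n => n ∈ Subgroup.normalizer (D : Set G)) with hfN
  have hcard_sD : sD.card = q * Nat.card K * (d - 1) := by
    rw [← h_card_Delt, Nat.card_eq_fintype_card, Fintype.card_subtype]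
  have hcard_fD : fD.card = d := by
    rw [← hcardD, Nat.card_eq_fintype_card, Fintype.card_subtype]
  have hcard_fN : fN.card = Nat.card (Subgroup.normalizer (D : Set G)) := by
    rw [Nat.card_eq_fintype_card, Fintype.card_subtype]
  -- centralizers of nonidentity elements of `D`
  have hcent : ∀ w ∈ D, w ≠ 1 → Subgroup.centralizer ({w} : Set G) = D := fun w hw hw1 =>
    (h_cent_D_eq y w hy1 hycop hw hw1).2
  -- the double count
  have hdc := Finset.sum_card_bipartiteAbove_eq_sum_card_bipartiteBelow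
    (fun (v g : G) => g⁻¹ * v * g ∈ D) (s := sD) (t := (Finset.univ : Finset G))
  -- left side
  have hleft : ∀ v ∈ sD,
      (Finset.bipartiteAbove (fun (v g : G) => g⁻¹ * v * g ∈ D) Finset.univ v).card = fN.card := by
    intro v hv
    rw [hsD, Finset.mem_filter] at hv
    obtain ⟨-, hv1, hvcop⟩ := hv
    -- a base point
    obtain ⟨g₀, hg₀⟩ := h_cent_D_conj y v hy1 hycop hv1 hvcop
    have hvmem : v ∈ Subgroup.centralizer ({v} : Set G) := by
      rw [Subgroup.mem_centralizer_singleton_iff]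
    rw [← hg₀] at hvmem
    obtain ⟨w₀, hw₀D, hw₀⟩ := Subgroup.mem_map.mp hvmem
    have hw₀' : g₀ * w₀ * g₀⁻¹ = v := hw₀
    have hw₀1 : w₀ ≠ 1 := by
      rintro rfl
      apply hv1
      rw [← hw₀']; group
    have hw₀eq : w₀ = g₀⁻¹ * v * g₀ := by rw [← hw₀']; group
    apply Finset.card_nbij' (fun g => g₀⁻¹ * g) (fun n => g₀ * n)
    · intro g hg
      rw [Finset.mem_coe, Finset.mem_bipartiteAbove] at hg
      rw [Finset.mem_coe, hfN, Finset.mem_filter]
      refine ⟨Finset.mem_univ _, ?_⟩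
      obtain ⟨-, hg⟩ := hg
      -- `w := g⁻¹ v g ∈ D`, `n w n⁻¹ = w₀`
      set w := g⁻¹ * v * g with hw
      have hw1 : w ≠ 1 := by
        intro h'
        apply hv1
        have : v = g * w * g⁻¹ := by rw [hw]; group
        rw [this, h']; group
      have hnw : (g₀⁻¹ * g) * w * (g₀⁻¹ * g)⁻¹ = w₀ := by
        rw [hw₀eq, hw]; group
      rw [Subgroup.mem_normalizer_iff]
      intro x
      show x ∈ D ↔ (g₀⁻¹ * g) * x * (g₀⁻¹ * g)⁻¹ ∈ D
      have e1 : x ∈ D ↔ x * w = w * x := by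
        rw [← hcent w hg hw1, Subgroup.mem_centralizer_singleton_iff]
      have e2 : (g₀⁻¹ * g) * x * (g₀⁻¹ * g)⁻¹ ∈ D ↔
          (g₀⁻¹ * g) * x * (g₀⁻¹ * g)⁻¹ * w₀ = w₀ * ((g₀⁻¹ * g) * x * (g₀⁻¹ * g)⁻¹) := by
        rw [← hcent w₀ hw₀D hw₀1, Subgroup.mem_centralizer_singleton_iff]
      rw [e1, e2, ← hnw]
      constructor
      · intro hx
        calc (g₀⁻¹ * g) * x * (g₀⁻¹ * g)⁻¹ * ((g₀⁻¹ * g) * w * (g₀⁻¹ * g)⁻¹)
            = (g₀⁻¹ * g) * (x * w) * (g₀⁻¹ * g)⁻¹ := by group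
          _ = (g₀⁻¹ * g) * (w * x) * (g₀⁻¹ * g)⁻¹ := by rw [hx]
          _ = _ := by group
      · intro hx
        have : (g₀⁻¹ * g)⁻¹ * ((g₀⁻¹ * g) * x * (g₀⁻¹ * g)⁻¹ * ((g₀⁻¹ * g) * w * (g₀⁻¹ * g)⁻¹)) *
            (g₀⁻¹ * g) = (g₀⁻¹ * g)⁻¹ * (((g₀⁻¹ * g) * w * (g₀⁻¹ * g)⁻¹) *
              ((g₀⁻¹ * g) * x * (g₀⁻¹ * g)⁻¹)) * (g₀⁻¹ * g) := by rw [hx]
        calc x * w = (g₀⁻¹ * g)⁻¹ * ((g₀⁻¹ * g) * x * (g₀⁻¹ * g)⁻¹ *
              ((g₀⁻¹ * g) * w * (g₀⁻¹ * g)⁻¹)) * (g₀⁻¹ * g) := by group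
          _ = (g₀⁻¹ * g)⁻¹ * (((g₀⁻¹ * g) * w * (g₀⁻¹ * g)⁻¹) *
              ((g₀⁻¹ * g) * x * (g₀⁻¹ * g)⁻¹)) * (g₀⁻¹ * g) := this
          _ = w * x := by group
    · intro n hn
      rw [Finset.mem_coe, hfN, Finset.mem_filter] at hn
      rw [Finset.mem_coe, Finset.mem_bipartiteAbove]
      refine ⟨Finset.mem_univ _, ?_⟩
      have hn' := (Subgroup.mem_normalizer_iff.mp hn.2 (n⁻¹ * w₀ * n)).mpr
        (by
          have : n * (n⁻¹ * w₀ * n) * n⁻¹ = w₀ := by group
          rw [this]; exact hw₀D)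
      have : (g₀ * n)⁻¹ * v * (g₀ * n) = n⁻¹ * w₀ * n := by rw [hw₀eq]; group
      rw [this]
      exact hn'
    · intro g _
      show g₀ * (g₀⁻¹ * g) = g
      group
    · intro n _
      show g₀⁻¹ * (g₀ * n) = n
      group
  -- right side
  have hright : ∀ g ∈ (Finset.univ : Finset G),
      (Finset.bipartiteBelow (fun (v g : G) => g⁻¹ * v * g ∈ D) sD g).card = d - 1 := by
    intro g _
    have h1 : (fD.erase 1).card = d - 1 := by
      rw [Finset.card_erase_of_mem, hcard_fD]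
      rw [hfD, Finset.mem_filter]
      exact ⟨Finset.mem_univ _, D.one_mem⟩
    rw [← h1]
    apply Finset.card_nbij' (fun v => g⁻¹ * v * g) (fun w => g * w * g⁻¹)
    · intro v hv
      rw [Finset.mem_coe, Finset.mem_bipartiteBelow, hsD, Finset.mem_filter] at hv
      obtain ⟨⟨-, hv1, -⟩, hvD⟩ := hv
      rw [Finset.mem_coe, Finset.mem_erase, hfD, Finset.mem_filter]
      refine ⟨?_, Finset.mem_univ _, hvD⟩
      intro h'
      have h'' : g⁻¹ * v * g = 1 := h'
      apply hv1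
      have : v = g * (g⁻¹ * v * g) * g⁻¹ := by group
      rw [this, h'']; group
    · intro w hw
      rw [Finset.mem_coe, Finset.mem_erase, hfD, Finset.mem_filter] at hw
      obtain ⟨hw1, -, hwD⟩ := hw
      rw [Finset.mem_coe, Finset.mem_bipartiteBelow, hsD, Finset.mem_filter]
      refine ⟨⟨Finset.mem_univ _, ?_, ?_⟩, ?_⟩
      · intro h'
        have h'' : g * w * g⁻¹ = 1 := h'
        apply hw1
        have : w = g⁻¹ * (g * w * g⁻¹) * g := by group
        rw [this, h'']; group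
      · show (orderOf (g * w * g⁻¹)).Coprime (2 * Nat.card K * q)
        rw [orderOf_conj_eq]
        exact (h_cent_D_eq y w hy1 hycop hwD hw1).1
      · show g⁻¹ * (g * w * g⁻¹) * g ∈ D
        have : g⁻¹ * (g * w * g⁻¹) * g = w := by group
        rw [this]; exact hwD
    · intro v _
      show g * (g⁻¹ * v * g) * g⁻¹ = v
      group
    · intro w _
      show g⁻¹ * (g * w * g⁻¹) * g = w
      group
  rw [Finset.sum_congr rfl hleft, Finset.sum_congr rfl hright, Finset.sum_const, Finset.sum_const,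
    smul_eq_mul, smul_eq_mul, Finset.card_univ, hcard_sD, hcard_fN, ← Nat.card_eq_fintype_card,
    c.card] at hdc
  -- arithmetic
  have hk4 := c.k4
  have hpos : 0 < q * Nat.card K * (d - 1) := by
    apply Nat.mul_pos (Nat.mul_pos (by omega) (by omega)) (by omega)
  have e : q * Nat.card K * (d - 1) * (2 * d) = 2 * Nat.card K * q * d * (d - 1) := by ring
  rw [← e] at hdc
  exact Nat.eq_of_mul_eq_mul_left hpos hdc

end Cfsg.Agent.Helper23.BSW
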